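import Cfsg.Agent.Lib.Char.Induction
import Cfsg.Agent.Lib.Char.Basic
import Cfsg.Agent.Lib.Invol.SECriterion.Shape.Rank
import Cfsg.Agent.Lib.Bender.Setup
import Cfsg.Agent.Lib.PGroup.JordanCover

/-!
# An induced irreducible character of a group with a core-free strongly embedded subgroup
-/

set_option autoImplicit false
set_option linter.unusedSectionVars false
set_option linter.style.haveILetI false

namespace CfsgLib.Char.PPowerDegree

open Cfsg MulAction
open scoped ComplexConjugate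

universe u

/-- A subgroup of odd order on which an involution acts, fixing every class, is centralised. -/
theorem eq_of_classes_fixed {D : Type u} [Group D] [Finite D] (hD : Odd (Nat.card D)) (σ : D ≃* D)
    (hσ : ∀ d, σ (σ d) = d) (hcls : ∀ d, IsConj d (σ d)) : ∀ d, σ d = d := by
  classical
  let C : Subgroup D := MonoidHom.eqLocus σ.toMonoidHom (MonoidHom.id D)
  have hfix : ∀ d : D, ∃ g : D, g * d * g⁻¹ ∈ C := by
    intro d
    let X := {x : D // IsConj d x}
    have hmap : ∀ x : D, IsConj d x → IsConj d (σ x) := fun x hx =>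
      (hcls d).trans (σ.toMonoidHom.map_isConj hx)
    let τ : Equiv.Perm X :=
      { toFun := fun x => ⟨σ x.1, hmap _ x.2⟩
        invFun := fun x => ⟨σ x.1, hmap _ x.2⟩
        left_inv := fun x => Subtype.ext (hσ x.1)
        right_inv := fun x => Subtype.ext (hσ x.1) }
    letI := Fintype.ofFinite X
    have hX : ¬ 2 ∣ Fintype.card X := fun h => by
      have e : Nat.card X = (stabilizer (ConjAct D) d).index := by
        rw [index_stabilizer, ConjAct.orbit_eq_carrier_conjClasses, ← Nat.card_coe_set_eq]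
        exact Nat.card_congr (Equiv.subtypeEquivRight fun x => by
          rw [ConjClasses.mem_carrier_iff_mk_eq, ConjClasses.mk_eq_mk_iff_isConj]
          exact ⟨IsConj.symm, IsConj.symm⟩)
      rw [← Nat.card_eq_fintype_card, e] at h
      exact hD.not_two_dvd_nat (h.trans (Subgroup.index_dvd_card (stabilizer (ConjAct D) d)))
    haveI : Fact (Nat.Prime 2) := ⟨Nat.prime_two⟩
    obtain ⟨⟨x, hx⟩, hfx⟩ := Equiv.Perm.exists_fixed_point_of_prime (p := 2) (n := 1) hX
      (σ := τ) (Equiv.ext fun x => by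
        rw [pow_one, pow_two, Equiv.Perm.mul_apply, Equiv.Perm.one_apply]
        exact τ.left_inv x)
    obtain ⟨g, hg⟩ := isConj_iff.1 hx
    exact ⟨g, hg ▸ (congrArg Subtype.val hfx : σ x = x)⟩
  have htop : C = ⊤ := CfsgLib.PGroup.eq_top_of_forall_conj_mem C fun d => by
    obtain ⟨g, hg⟩ := hfix d
    exact ⟨g⁻¹, by rwa [inv_inv]⟩
  exact fun d => (htop ▸ Subgroup.mem_top d : d ∈ C)

variable {G : Type u} [Group G] [Finite G] {H Q : Subgroup G}

/-- An involution swapping two points does not centralise their stabiliser. -/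
theorem exists_not_commute (h : CfsgLib.SECrit.Shape.Data H Q) {t : G}
    (hS : Cfsg.IsRankOneSetup G (G ⧸ H) ((1 : G) : G ⧸ H) t Q) :
    ∃ d ∈ stabilizer G ((1 : G) : G ⧸ H) ⊓ stabilizer G (t • ((1 : G) : G ⧸ H)), t * d * t ≠ d := by
  classical
  set a : G ⧸ H := ((1 : G) : G ⧸ H) with ha
  set b := t • a with hb
  set D := stabilizer G a ⊓ stabilizer G b with hD
  by_contra hcon
  push Not at hcon
  have hab : b ≠ a := fun e => hS.not_mem e
  -- one involution swaps `a` and `b`
  have hone : ∀ s : G, orderOf s = 2 → s • a = b → s = t := by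
    intro s hs hsa
    have hsb : s • b = a := by rw [← hsa, Invol.invol_smul_smul hs]
    have htb : t • b = a := by rw [hb, smul_smul, hS.mul_self, one_smul]
    have hd : t * s ∈ D := ⟨show (t * s) • a = a by rw [mul_smul, hsa, htb],
      show (t * s) • b = b by rw [mul_smul, hsb]⟩
    have hc := hcon _ hd
    have hsq : t * s * (t * s) = 1 := by
      nth_rewrite 2 [← hc]
      simp [← mul_assoc, mul_assoc _ t t, hS.mul_self, mul_assoc _ s s, Invol.invol_mul_self hs]
    have h1 : orderOf (t * s) ∣ 2 := orderOf_dvd_of_pow_eq_one (by rw [pow_two, hsq])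
    have h2 : orderOf (t * s) ∣ Nat.card D := Subgroup.orderOf_dvd_natCard D hd
    have h3 : orderOf (t * s) = 1 :=
      ((Nat.dvd_prime Nat.prime_two).1 h1).resolve_right fun e =>
        hS.odd_card.not_two_dvd_nat (e ▸ h2)
    rw [orderOf_eq_one_iff] at h3
    exact (inv_eq_of_mul_eq_one_right h3).symm.trans (inv_eq_of_mul_eq_one_right hS.mul_self)
  haveI := hS.two_transitive
  have htwo : ∀ {a b c d : G ⧸ H}, a ≠ b → c ≠ d → ∃ g : G, g • a = c ∧ g • b = d :=
    MulAction.is_two_pretransitive_iff.1 hS.two_transitive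
  have hinj : ∀ s s' : G, orderOf s = 2 → orderOf s' = 2 → s • a ≠ a → s • a = s' • a → s = s' := by
    intro s s' hs hs' hne he
    obtain ⟨g, hga, hgb⟩ := htwo hne.symm hab.symm
    have k1 := hone (g * s * g⁻¹) (Invol.invol_conj hs g) (by
      rw [mul_smul, inv_smul_eq_iff.2 hga.symm, mul_smul, hgb])
    have k2 := hone (g * s' * g⁻¹) (Invol.invol_conj hs' g) (by
      rw [mul_smul, inv_smul_eq_iff.2 hga.symm, mul_smul, ← he, hgb])
    exact mul_left_cancel (mul_right_cancel (k1.trans k2.symm))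
  -- two involutions fixing `a`
  obtain ⟨x, y, hx, hy, hxy, hc⟩ := h.pair
  obtain ⟨c, hcx⟩ := CfsgLib.Bender.exists_fixed h.se hx
  have hcy : y • c = c := Invol.fixed_unique h.se hx (by rw [smul_smul, hc.eq, mul_smul, hcx]) hcx
  obtain ⟨g, rfl⟩ := QuotientGroup.mk_surjective c
  have hmem : ∀ z : G, z • (g : G ⧸ H) = (g : G ⧸ H) → g⁻¹ * z * g⁻¹⁻¹ ∈ H := by
    intro z hz
    rw [MulAction.Quotient.smul_coe, smul_eq_mul, QuotientGroup.eq] at hz
    simpa [mul_assoc] using inv_mem hz
  let I := {z : G // orderOf z = 2 ∧ z ∈ H}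
  have hI : 2 ≤ Nat.card I := by
    rw [Nat.succ_le_iff, Finite.one_lt_card_iff_nontrivial]
    exact ⟨⟨⟨_, Invol.invol_conj hx g⁻¹, hmem x hcx⟩, ⟨_, Invol.invol_conj hy g⁻¹, hmem y hcy⟩,
      fun e => hxy (mul_left_cancel (mul_right_cancel (congrArg Subtype.val e)))⟩⟩
  -- the involutions outside `H` outnumber the other points
  let Ω' := {c : G ⧸ H // c ≠ a}
  have hsurj : ∀ c : Ω', ∃ g : G, (g : G ⧸ H) = c.1 := fun c => QuotientGroup.mk_surjective c.1
  choose r hr using hsurj
  have hfixr : ∀ (c : Ω') (z : I), (r c * z.1 * (r c)⁻¹) • c.1 = c.1 := by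
    intro c z
    rw [← hr c, show ((r c : G) : G ⧸ H) = r c • a by
      rw [ha, MulAction.Quotient.smul_coe, smul_eq_mul, mul_one]]
    exact Invol.conj_fixes.2 (Invol.fixed_one_iff.2 z.2.2)
  have hmove : ∀ (c : Ω') (z : I), (r c * z.1 * (r c)⁻¹) • a ≠ a := fun c z e =>
    c.2 (Invol.fixed_unique h.se (Invol.invol_conj z.2.1 _) (hfixr c z) e)
  let f : Ω' × I → Ω' := fun cz => ⟨(r cz.1 * cz.2.1 * (r cz.1)⁻¹) • a, hmove cz.1 cz.2⟩
  have hf : Function.Injective f := by
    rintro ⟨c, z⟩ ⟨c', z'⟩ e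
    have e1 := hinj _ _ (Invol.invol_conj z.2.1 (r c)) (Invol.invol_conj z'.2.1 (r c')) (hmove c z)
      (congrArg Subtype.val e)
    have hcc : c = c' := Subtype.ext (Invol.fixed_unique h.se (Invol.invol_conj z.2.1 (r c)) (hfixr c z)
      (e1 ▸ hfixr c' z'))
    subst hcc
    exact Prod.ext rfl (Subtype.ext (mul_left_cancel (mul_right_cancel e1)))
  have hcard := Nat.card_le_card_of_injective f hf
  rw [Nat.card_prod] at hcard
  have hpos : 0 < Nat.card Ω' := by
    haveI : Nonempty Ω' := ⟨⟨b, hab⟩⟩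
    exact Nat.card_pos
  have := Nat.mul_le_mul_left (Nat.card Ω') hI
  omega

variable [Fintype G]

/-- A core-free strongly embedded subgroup has a character inducing to an irreducible one. -/
theorem exists_irr_induced (h : CfsgLib.SECrit.Shape.Data H Q) :
    ∃ (θ : IrrCharacter H) (χ : IrrCharacter G), (χ : G → ℂ) 1 = (H.index : ℂ) * (θ : H → ℂ) 1 := by
  classical
  obtain ⟨t, hS⟩ := h.exists_setup
  set a : G ⧸ H := ((1 : G) : G ⧸ H) with ha
  have hstab : ∀ g : G, g ∈ stabilizer G a ↔ g ∈ H := fun g => by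
    rw [mem_stabilizer_iff, Invol.fixed_one_iff]
  set D := stabilizer G a ⊓ stabilizer G (t • a) with hD
  have hti : t⁻¹ = t := inv_eq_of_mul_eq_one_right hS.mul_self
  have htta : t • t • a = a := by rw [smul_smul, hS.mul_self, one_smul]
  have hconjD : ∀ g : G, g ∈ D → t * g * t ∈ D := by
    rintro g ⟨h1, h2⟩
    refine ⟨?_, ?_⟩
    · show (t * g * t) • a = a
      rw [mul_smul, mul_smul, show g • t • a = t • a from h2, htta]
    · show (t * g * t) • (t • a) = t • a
      rw [mul_smul, mul_smul, htta, show g • a = a from h1]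
  have htt : ∀ g : G, t * (t * g * t) * t = g := fun g => by
    simp [← mul_assoc, hS.mul_self, mul_assoc _ t t]
  let σ : D ≃* D :=
    { toFun := fun d => ⟨t * d * t, hconjD _ d.2⟩
      invFun := fun d => ⟨t * d * t, hconjD _ d.2⟩
      left_inv := fun d => Subtype.ext (htt d)
      right_inv := fun d => Subtype.ext (htt d)
      map_mul' := fun d e => Subtype.ext (by simp [← mul_assoc, mul_assoc _ t t, hS.mul_self]) }
  obtain ⟨φ, hφ⟩ : ∃ φ : IrrCharacter D, ∃ d : D, (φ : D → ℂ) (σ d) ≠ (φ : D → ℂ) d := by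
    by_contra hcon
    push Not at hcon
    obtain ⟨d, hd, hne⟩ := exists_not_commute h hS
    exact hne (congrArg Subtype.val (eq_of_classes_fixed hS.odd_card σ (fun d => Subtype.ext (htt d))
      (fun d => isConj_of_irr_agree fun χ => (hcon χ d).symm) ⟨d, hd⟩))
  -- the inflation to `H`
  haveI : (Q.subgroupOf H).Normal := (Subgroup.normal_subgroupOf_iff_le_normalizer h.le).2 h.norm
  have hDH : D ≤ H := fun g hg => (hstab g).1 hg.1
  let j : D →* H ⧸ Q.subgroupOf H := (QuotientGroup.mk' _).comp (Subgroup.inclusion hDH)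
  have hj : Function.Bijective j := by
    refine ⟨(injective_iff_map_eq_one j).2 fun d hd => Subtype.ext ?_, fun x => ?_⟩
    · have : (d : G) ∈ Q ⊓ stabilizer G (t • a) :=
        ⟨Subgroup.mem_subgroupOf.1 ((QuotientGroup.eq_one_iff (Subgroup.inclusion hDH d)).1 hd), d.2.2⟩
      rwa [hS.inf_eq_bot, Subgroup.mem_bot] at this
    · obtain ⟨⟨g, hg⟩, rfl⟩ := QuotientGroup.mk_surjective x
      have hg' : g ∈ Q ⊔ D := by rw [hS.sup_eq, hstab]; exact hg
      rw [← SetLike.mem_coe, Subgroup.coe_mul_of_right_le_normalizer_left _ _ (hDH.trans h.norm)] at hg'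
      obtain ⟨y, hy, d, hd, rfl⟩ := Set.mem_mul.1 hg'
      refine ⟨⟨d, hd⟩, QuotientGroup.eq.2 (Subgroup.mem_subgroupOf.2 ?_)⟩
      show d⁻¹ * (y * d) ∈ Q
      have := (Subgroup.mem_normalizer_iff.1 (h.norm (inv_mem (hDH hd))) y).1 hy
      rwa [inv_inv, mul_assoc] at this
  let e : D ≃* H ⧸ Q.subgroupOf H := MulEquiv.ofBijective j hj
  let π : H →* D := e.symm.toMonoidHom.comp (QuotientGroup.mk' _)
  let θ : IrrCharacter H := ⟨fun x => (φ : D → ℂ) (π x), isIrrCharacter_comp_surjective φ.2 π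
    (e.symm.surjective.comp (QuotientGroup.mk'_surjective _))⟩
  have hθD : ∀ d : D, (θ : H → ℂ) ⟨d, hDH d.2⟩ = (φ : D → ℂ) d := fun d => by
    show (φ : D → ℂ) (e.symm (e d)) = _
    rw [MulEquiv.symm_apply_apply]
  haveI := Fintype.ofFinite H
  haveI := Fintype.ofFinite D
  set E := extendByZero H (θ : H → ℂ) with hE
  have hEconj : ∀ k ∈ H, ∀ w : G, E (k⁻¹ * w * k) = E w := by
    intro k hk w
    by_cases hw : w ∈ H
    · rw [hE, extendByZero_mem H _ hw, extendByZero_mem H _ (mul_mem (mul_mem (inv_mem hk) hw) hk)]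
      refine Eq.trans (congrArg (θ : H → ℂ) ?_) (isClassFunction_irr θ ⟨w, hw⟩ ⟨k⁻¹, inv_mem hk⟩)
      exact Subtype.ext (show k⁻¹ * w * k = k⁻¹ * w * k⁻¹⁻¹ by rw [inv_inv])
    · rw [hE, extendByZero_not_mem H _ hw, extendByZero_not_mem H _ fun h' => hw (by
        have := mul_mem (mul_mem hk h') (inv_mem hk)
        simpa [mul_assoc] using this)]
  have htH : t ∉ H := fun e => hS.not_mem ((hstab t).2 e)
  have hytH : ∀ y : Q, (y : G) * t ∉ H := fun y e =>
    htH ((mul_mem_cancel_left (h.le y.2)).1 e)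
  -- the value on `H`
  have hval : ∀ w : H, indFun H (θ : H → ℂ) w = (θ : H → ℂ) w + ∑ y : Q, E (t * ((y : G)⁻¹ * w * y) * t) := by
    intro w
    have hout : ∑ x ∈ Finset.univ.filter (fun x : G => x ∉ H), E (x⁻¹ * w * x) =
        ∑ p : Q × H, E (t * ((p.1 : G)⁻¹ * w * p.1) * t) := by
      symm
      refine Finset.sum_bij (fun p _ => (p.1 : G) * t * p.2) (fun p _ => ?_) (fun p _ q _ e => ?_)
        (fun x hx => ?_) (fun p _ => ?_)
      · exact Finset.mem_filter.2 ⟨Finset.mem_univ _, fun e => hytH p.1 ((mul_mem_cancel_right p.2.2).1 e)⟩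
      · have h1 : (t⁻¹ * ((p.1 : G)⁻¹ * q.1) * t) ∈ H := by
          have : t⁻¹ * ((p.1 : G)⁻¹ * q.1) * t = p.2 * (q.2 : G)⁻¹ := by
            rw [eq_mul_inv_iff_mul_eq]
            calc t⁻¹ * ((p.1 : G)⁻¹ * q.1) * t * q.2
                = t⁻¹ * (p.1 : G)⁻¹ * ((q.1 : G) * t * q.2) := by simp [mul_assoc]
              _ = p.2 := by rw [← e]; group
          rw [this]; exact H.mul_mem p.2.2 (H.inv_mem q.2.2)
        have h2 : (p.1 : G)⁻¹ * q.1 ∈ Q ⊓ stabilizer G (t • a) := by
          refine ⟨Q.mul_mem (Q.inv_mem p.1.2) q.1.2, ?_⟩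
          have := (hstab _).2 h1
          rw [mem_stabilizer_iff, mul_smul, mul_smul, inv_smul_eq_iff] at this
          exact this
        rw [hS.inf_eq_bot, Subgroup.mem_bot, inv_mul_eq_one] at h2
        refine Prod.ext (Subtype.ext h2) (Subtype.ext ?_)
        rw [h2] at e
        exact mul_left_cancel e
      · obtain ⟨y, ⟨hy, hyx⟩, -⟩ := h.reg t x htH (Finset.mem_filter.1 hx).2
        refine ⟨(⟨y, hy⟩, ⟨(x⁻¹ * (y * t))⁻¹, inv_mem hyx⟩), Finset.mem_univ _, ?_⟩
        simp [mul_assoc]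
      · rw [show ((p.1 : G) * t * p.2)⁻¹ * w * ((p.1 : G) * t * p.2) =
          (p.2 : G)⁻¹ * (t * ((p.1 : G)⁻¹ * w * p.1) * t) * p.2 by
            simp [mul_assoc, hti], hEconj _ p.2.2]
    have hin : ∑ x ∈ Finset.univ.filter (fun x : G => x ∈ H), E (x⁻¹ * w * x) =
        (Nat.card H : ℂ) * (θ : H → ℂ) w := by
      rw [Finset.sum_congr rfl (g := fun _ => (θ : H → ℂ) w) fun x hx => ?_, Finset.sum_const,
        ← Fintype.card_subtype, ← Nat.card_eq_fintype_card, nsmul_eq_mul]
      · rw [hEconj x (Finset.mem_filter.1 hx).2, hE, extendByZero_mem H _ w.2]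
    rw [indFun, ← hE, ← Finset.sum_filter_add_sum_filter_not Finset.univ (fun x : G => x ∈ H), hin,
      hout, Fintype.sum_prod_type]
    simp only [Finset.sum_const, Finset.card_univ, nsmul_eq_mul, ← Finset.mul_sum,
      ← Nat.card_eq_fintype_card]
    have : (Nat.card H : ℂ) ≠ 0 := by exact_mod_cast Nat.card_pos.ne'
    field_simp
  -- the norm
  have hnorm : classInner (indFun H (θ : H → ℂ)) (indFun H (θ : H → ℂ)) = 1 := by
    rw [classInner_indFun H _ _ (isClassFunction_indFun H _)]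
    have hsum : ∀ y : Q, ∑ w : H, (θ : H → ℂ) w * conj (E (t * ((y : G)⁻¹ * w * y) * t)) =
        ∑ d : D, (φ : D → ℂ) d * conj ((φ : D → ℂ) (σ d)) := by
      intro y
      have hyH := h.le y.2
      rw [Fintype.sum_bijective (fun w : H => (⟨y, hyH⟩ : H)⁻¹ * w * ⟨y, hyH⟩)
        ((MulAut.conj (⟨y, hyH⟩ : H)⁻¹).bijective.comp Function.bijective_id |> fun hb => by
          convert hb using 1
          funext w
          simp [MulAut.conj_apply, mul_assoc])
        (fun w : H => (θ : H → ℂ) w * conj (E (t * ((y : G)⁻¹ * w * y) * t)))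
        (fun w : H => (θ : H → ℂ) w * conj (E (t * w * t))) fun w => by
          congr 1
          rw [← isClassFunction_irr θ w (⟨y, hyH⟩ : H)⁻¹, inv_inv]]
      rw [← Finset.sum_filter_add_sum_filter_not Finset.univ (fun w : H => (w : G) ∈ D),
        Finset.sum_eq_zero (s := Finset.univ.filter fun w : H => ¬ (w : G) ∈ D) fun w hw => ?_, add_zero]
      · refine Finset.sum_bij' (fun w hw => ⟨w, (Finset.mem_filter.1 hw).2⟩)
          (fun d _ => ⟨d, hDH d.2⟩) (fun _ _ => Finset.mem_univ _)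
          (fun d _ => Finset.mem_filter.2 ⟨Finset.mem_univ _, d.2⟩) (fun _ _ => rfl) (fun _ _ => rfl)
          fun w hw => ?_
        have hwD := (Finset.mem_filter.1 hw).2
        rw [hE, extendByZero_mem H _ (hDH (hconjD _ hwD)),
          show (θ : H → ℂ) w = (φ : D → ℂ) ⟨w, hwD⟩ from hθD ⟨w, hwD⟩,
          show (θ : H → ℂ) ⟨t * (w : G) * t, hDH (hconjD _ hwD)⟩ = (φ : D → ℂ) ⟨_, hconjD _ hwD⟩ from
            hθD ⟨_, hconjD _ hwD⟩]
        rfl
      · rw [hE, extendByZero_not_mem H _ fun hm => (Finset.mem_filter.1 hw).2 ?_, map_zero, mul_zero]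
        refine ⟨(hstab _).2 w.2, ?_⟩
        have := (hstab _).2 hm
        rw [mem_stabilizer_iff, mul_smul, mul_smul] at this
        show (w : G) • t • a = t • a
        conv_rhs => rw [← this, smul_smul, hS.mul_self, one_smul]
    have horth : ∑ d : D, (φ : D → ℂ) d * conj ((φ : D → ℂ) (σ d)) = 0 := by
      let φ' : IrrCharacter D := ⟨fun d => (φ : D → ℂ) (σ d), isIrrCharacter_comp_surjective φ.2
        σ.toMonoidHom σ.surjective⟩
      have hne : φ ≠ φ' := fun e => by
        obtain ⟨d, hd⟩ := hφ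
        exact hd (congrFun (congrArg Subtype.val e) d).symm
      have := classInner_irr_ne hne
      rw [classInner, mul_eq_zero] at this
      exact this.resolve_left (inv_ne_zero (by exact_mod_cast Nat.card_pos.ne'))
    rw [classInner]
    simp only [hval, map_add, map_sum, mul_add, Finset.mul_sum, Finset.sum_add_distrib]
    rw [Finset.sum_comm, Finset.sum_eq_zero (s := (Finset.univ : Finset Q)) fun y _ => ?_, add_zero]
    · rw [← Finset.mul_sum]
      exact classInner_irr_self θ
    · rw [← Finset.mul_sum, hsum, horth, mul_zero]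
  exact ⟨θ, ⟨indFun H (θ : H → ℂ), isIrr_of_isCharacter_norm_one (isCharacter_indFun H (isCharacter_irr θ)) hnorm⟩,
    indFun_one H _⟩

end CfsgLib.Char.PPowerDegree
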