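import Cfsg.Agent.Lib.Char.PPowerDegree.Induced
import Cfsg.Agent.Lib.Char.StrunkovInvolutions
import Cfsg.Agent.Lib.Bender.Binary.Models
import Cfsg.Agent.Lib.Bender.Full.Main
import Cfsg.Agent.Lib.Bender.RankOne
import Cfsg.Agent.Lib.Block.PairSolvable.Criterion

/-!
# Odd centralisers of `p`-elements in a transitive group of prime power degree
-/

set_option autoImplicit false
set_option linter.unusedSectionVars false
set_option linter.style.haveILetI false

namespace CfsgLib.Char.PPowerDegree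

open Cfsg MulAction

universe u v

/-- A group with a solvable normal subgroup of index prime to `p` is `p`-solvable. -/
theorem isPSolvable_of_normal {p : ℕ} [hp : Fact p.Prime] (n : ℕ) :
    ∀ (G : Type u) [Group G] [Finite G], Nat.card G = n →
      ∀ (N : Subgroup G) [N.Normal], Group.IsSolvable N → N.index.Coprime p → Cfsg.IsPSolvable p G := by
  induction n using Nat.strong_induction_on with
  | _ n ih =>
  intro G _ _ hn N _ hsolv hidx
  by_cases hN : N = ⊥
  · exact CfsgLib.Block.PairSolvable.isPSolvable_of_coprime_card (by rwa [hN, Subgroup.index_bot] at hidx)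
  obtain ⟨M, hM, hM1, hMN, hmin⟩ := CfsgLib.Coprime.exists_minimal_normal_le hN
  haveI := hM
  haveI := hsolv
  haveI : Group.IsSolvable M :=
    Group.isSolvable_of_isSolvable_injective (f := Subgroup.inclusion hMN) (Subgroup.inclusion_injective hMN)
  obtain ⟨-, q, hq, hqM⟩ := CfsgLib.Coprime.minimal_normal_solvable hM1 hmin
  haveI := Fact.mk hq
  have hMq : IsPGroup q M := fun a => ⟨1, Subtype.ext (by rw [pow_one]; exact hqM a a.2)⟩
  obtain ⟨c, hc⟩ := IsPGroup.iff_card.1 hMq
  have hlt : Nat.card (G ⧸ M) < n := by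
    rw [← hn, Subgroup.card_eq_card_quotient_mul_card_subgroup M]
    haveI : Nontrivial M := (Subgroup.nontrivial_iff_ne_bot M).2 hM1
    exact lt_mul_right Nat.card_pos Finite.one_lt_card
  haveI : (N.map (QuotientGroup.mk' M)).Normal :=
    Subgroup.Normal.map inferInstance _ (QuotientGroup.mk'_surjective M)
  have hquot : Cfsg.IsPSolvable p (G ⧸ M) := ih _ hlt (G ⧸ M) rfl (N.map (QuotientGroup.mk' M))
    (Group.isSolvable_of_surjective (f := (QuotientGroup.mk' M).subgroupMap N)
      ((QuotientGroup.mk' M).subgroupMap_surjective N))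
    (by rwa [Subgroup.index_map_eq _ (QuotientGroup.mk'_surjective M)
      (by rwa [QuotientGroup.ker_mk'])])
  by_cases hqp : q = p
  · exact CfsgLib.Fusion.isPSolvable_of_pGroup_extension M (hqp ▸ hMq) hquot
  · exact CfsgLib.Block.FongSwan.isPSolvable_of_coprime_extension (QuotientGroup.mk' M)
      (QuotientGroup.mk'_surjective M) (by
        rw [QuotientGroup.ker_mk', hc]
        exact Nat.Coprime.pow_left c ((Nat.coprime_primes hq hp.out).2 hqp)) hquot

/-- The main theorem. -/
theorem main {G : Type u} {Ω : Type v} [Group G] [Finite G] [MulAction G Ω] [FaithfulSMul G Ω] [Fintype Ω]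
    (htr : MulAction.IsPretransitive G Ω) (p : ℕ) [hp : Fact p.Prime] (hp2 : p ≠ 2) (hpG : p ∣ Nat.card G)
    (h2G : 2 ∣ Nat.card G)
    (hC : ∀ g : G, g ≠ 1 → (∃ k : ℕ, orderOf g = p ^ k) →
      Odd (Nat.card ↥(Subgroup.centralizer ({g} : Set G))))
    (r : ℕ) (hr : 1 ≤ r) (hΩ : Fintype.card Ω = p ^ r) :
    (∃ χ : IrrCharacter G, (charDegree (χ : G → ℂ)).factorization p = (Nat.card G).factorization p) ∨
      (IsPSolvable p G ∧
        ∃ χ : IrrCharacter G, (charDegree (χ : G → ℂ)).factorization 2 = (Nat.card G).factorization 2) := by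
  classical
  haveI : Fact (Nat.Prime 2) := ⟨Nat.prime_two⟩
  haveI := htr
  have hNo : Strunkov.NoComm p 2 G :=
    Strunkov.NoComm.of_centralizer fun g hg hk => (hC g hg hk).not_two_dvd_nat
  by_cases hno : ∃ χ : IrrCharacter G,
      (charDegree (χ : G → ℂ)).factorization p = (Nat.card G).factorization p
  · exact Or.inl hno
  obtain ⟨hab, hone⟩ := Strunkov.abelian_and_one_class hp2 (even_iff_two_dvd.2 h2G) hNo hno
  obtain ⟨P⟩ : Nonempty (Sylow p G) := inferInstance
  haveI : Nonempty Ω := Fintype.card_pos_iff.1 (hΩ ▸ pow_pos hp.out.pos r)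
  obtain ⟨α⟩ : Nonempty Ω := inferInstance
  set M := stabilizer G α with hMd
  have hidx : M.index = p ^ r := by
    rw [hMd, index_stabilizer_of_transitive, Nat.card_eq_fintype_card, hΩ]
  -- the Sylow subgroup is regular
  set a := (Nat.card M).factorization p with ha
  have hPcard : Nat.card (P : Subgroup G) = p ^ (r + a) := by
    rw [P.card_eq_multiplicity, ← M.index_mul_card, hidx,
      Nat.factorization_mul (pow_ne_zero _ hp.out.ne_zero) Nat.card_pos.ne', Finsupp.add_apply,
      Nat.Prime.factorization_pow hp.out, Finsupp.single_eq_same, ← ha]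
  set S := stabilizer (P : Subgroup G) α with hSd
  obtain ⟨j, hj⟩ := (P.2.to_subgroup S).exists_card_eq
  have hSM : Nat.card S ∣ Nat.card M := Subgroup.card_dvd_of_injective
    ((((P : Subgroup G).subtype.comp S.subtype)).codRestrict M fun s => s.2)
    fun s s' e => Subtype.ext (Subtype.ext (congrArg (fun z : M => (z : G)) e))
  have hja : j ≤ a := by
    rw [hj] at hSM
    exact (hp.out.pow_dvd_iff_le_factorization Nat.card_pos.ne').1 hSM
  have horb : orbit (P : Subgroup G) α = Set.univ := by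
    have h1 := S.index_mul_card
    rw [hSd, index_stabilizer, ← hSd, hPcard, hj] at h1
    have h2 : p ^ r * p ^ j ≤ (orbit (P : Subgroup G) α).ncard * p ^ j := by
      rw [h1, ← pow_add]
      exact Nat.pow_le_pow_right hp.out.pos (by omega)
    refine Set.eq_of_subset_of_ncard_le (Set.subset_univ _) ?_
    rw [Set.ncard_univ, Nat.card_eq_fintype_card, hΩ]
    exact Nat.le_of_mul_le_mul_right h2 (pow_pos hp.out.pos j)
  have hreach : ∀ b : Ω, ∃ x ∈ (P : Subgroup G), x • α = b := fun b => by
    obtain ⟨x, hx⟩ := (horb ▸ Set.mem_univ b : b ∈ orbit (P : Subgroup G) α)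
    exact ⟨x, x.2, hx⟩
  have hfree : ∀ x ∈ (P : Subgroup G), ∀ b : Ω, x • b = b → x = 1 := by
    intro x hx b hb
    refine eq_of_smul_eq_smul (α := Ω) fun c => ?_
    obtain ⟨y, hy, rfl⟩ := hreach b
    obtain ⟨z, hz, rfl⟩ := hreach c
    have hc : ∀ w ∈ (P : Subgroup G), x * w = w * x := fun w hw =>
      congrArg Subtype.val ((hab P).is_comm.comm ⟨x, hx⟩ ⟨w, hw⟩)
    have hα : x • α = α := by
      rw [← mul_smul, hc y hy, mul_smul] at hb
      exact smul_left_cancel y hb
    rw [one_smul, ← mul_smul, hc z hz, mul_smul, hα]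
  have ha0 : a = 0 := by
    have h1 := S.index_mul_card
    rw [hSd, index_stabilizer, ← hSd, hPcard, hj, horb, Set.ncard_univ, Nat.card_eq_fintype_card, hΩ,
      ← pow_add] at h1
    have h2 := Nat.pow_right_injective hp.out.two_le h1
    have hbot : S = ⊥ := (Subgroup.eq_bot_iff_forall _).2 fun s hs =>
      Subtype.ext (hfree s s.2 α hs)
    rw [hbot, Subgroup.card_bot] at hj
    have : j = 0 := Nat.pow_right_injective hp.out.two_le (hj.symm.trans (pow_zero p).symm)
    omega
  have hMp : ¬ p ∣ Nat.card M := fun h => by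
    have := (hp.out.pow_dvd_iff_le_factorization (k := 1) Nat.card_pos.ne').1 (by simpa using h)
    omega
  -- involutions fix one point
  have huniq : ∀ t : G, orderOf t = 2 → ∀ b c : Ω, t • b = b → t • c = c → b = c := by
    intro t ht b c hb hc
    obtain ⟨-, u, hconj, hu⟩ := Strunkov.exists_inverting_conj hp2 hNo hno ht P
    obtain ⟨g, rfl⟩ := isConj_iff.1 hconj
    have hgb : (g * t * g⁻¹) • (g • b) = g • b := by rw [smul_smul, inv_mul_cancel_right, mul_smul, hb]
    have hgc : (g * t * g⁻¹) • (g • c) = g • c := by rw [smul_smul, inv_mul_cancel_right, mul_smul, hc]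
    obtain ⟨y, hy, hyb⟩ := hreach (g • b)
    obtain ⟨z, hz, hzc⟩ := hreach (g • c)
    set x := z * y⁻¹ with hx
    have hxP : x ∈ (P : Subgroup G) := mul_mem hz (inv_mem hy)
    have hxbc : x • g • b = g • c := by rw [← hyb, hx, smul_smul, inv_mul_cancel_right, hzc]
    have h1 : x⁻¹ • g • b = g • c := by
      rw [← hu x hxP, mul_smul, mul_smul, inv_smul_eq_iff.2 hgb.symm, hxbc, hgc]
    have h2 : x ^ 2 = 1 := hfree _ (pow_mem hxP 2) (g • b) (by
      rw [pow_two, mul_smul, hxbc, ← h1, smul_inv_smul])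
    have h3 : orderOf x ∣ 2 := orderOf_dvd_of_pow_eq_one h2
    obtain ⟨i, hi⟩ := P.2 ⟨x, hxP⟩
    have h4 : orderOf x ∣ p ^ i := orderOf_dvd_of_pow_eq_one (congrArg Subtype.val hi)
    have h5 : x = 1 := orderOf_eq_one_iff.1 (Nat.dvd_one.1
      ((((Nat.coprime_primes Nat.prime_two hp.out).2 (Ne.symm hp2)).pow_right i).gcd_eq_one ▸
        Nat.dvd_gcd h3 h4))
    rw [h5, one_smul] at hxbc
    exact smul_left_cancel g hxbc
  obtain ⟨s, hs⟩ := exists_prime_orderOf_dvd_card' (G := G) 2 h2G
  obtain ⟨β, hβ⟩ : ∃ β : Ω, s • β = β := by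
    have := Equiv.Perm.exists_fixed_point_of_prime (p := 2) (n := 1) (σ := MulAction.toPerm s)
      (by rw [hΩ]; exact fun h => hp2 ((Nat.prime_dvd_prime_iff_eq Nat.prime_two hp.out).1
        (Nat.prime_two.dvd_of_dvd_pow h)).symm)
      (Equiv.ext fun b => by
        rw [pow_one, pow_two, Equiv.Perm.mul_apply, Equiv.Perm.one_apply]
        exact Invol.invol_smul_smul hs b)
    simpa using this
  obtain ⟨k, hk⟩ := MulAction.exists_smul_eq G β α
  haveI : Nontrivial Ω := Fintype.one_lt_card_iff_nontrivial.1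
    (hΩ ▸ Nat.one_lt_pow (by omega) hp.out.one_lt)
  obtain ⟨γ, hγ⟩ := exists_ne α
  obtain ⟨g, hg⟩ := MulAction.exists_smul_eq G α γ
  have hSE : IsStronglyEmbedded M :=
    CfsgLib.Bender.Binary.se_of_fix_unique (Invol.invol_conj hs k)
      (by rw [← hk, smul_smul, inv_mul_cancel_right, mul_smul, hβ]) (hg ▸ hγ) huniq
  have hcore : M.normalCore = ⊥ := by
    refine (Subgroup.eq_bot_iff_forall _).2 fun x hx => eq_of_smul_eq_smul (α := Ω) fun c => ?_
    obtain ⟨g, rfl⟩ := MulAction.exists_smul_eq G α c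
    have h1 : (g⁻¹ * x * g⁻¹⁻¹) • α = α := hx g⁻¹
    rw [inv_inv, mul_smul, mul_smul, inv_smul_eq_iff] at h1
    rw [one_smul, h1]
  by_cases hpair : CfsgLib.Bender.HasPair G
  · exfalso
    haveI := Fintype.ofFinite G
    obtain ⟨Q, hle, hn, htwo, hreg⟩ := CfsgLib.Bender.Full.fullStatement G M hSE hcore hpair
    obtain ⟨θ, χ, hχ⟩ := exists_irr_induced ⟨hSE, hcore, hpair, hle, hn, htwo, hreg⟩
    refine hno ⟨χ, ?_⟩
    set d := charDegree (θ : M → ℂ) with hd
    have hθ : (θ : M → ℂ) 1 = (d : ℂ) := Block.ItoMichler.one_eq_cast θ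
    have e : charDegree (χ : G → ℂ) = M.index * d := by
      have := Block.ItoMichler.one_eq_cast χ
      rw [hχ, hθ] at this
      exact_mod_cast this.symm
    have hdM : d ∣ Nat.card M := degree_dvd_card θ hθ
    rw [e, ← M.index_mul_card, Nat.factorization_mul Subgroup.index_ne_zero_of_finite
        (ne_zero_of_dvd_ne_zero Nat.card_pos.ne' hdM),
      Nat.factorization_mul Subgroup.index_ne_zero_of_finite Nat.card_pos.ne', Finsupp.add_apply,
      Finsupp.add_apply, Nat.factorization_eq_zero_of_not_dvd hMp,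
      Nat.factorization_eq_zero_of_not_dvd fun h => hMp (h.trans hdM)]
  · have hsup := CfsgLib.Bender.oddCore_sup_eq_top hSE hpair
    haveI := CfsgLib.Coprime.pPrimeCore_characteristic (G := G) 2
    have hodd : Odd (Nat.card (Cfsg.oddCore G)) := Nat.not_even_iff_odd.1 fun h =>
      CfsgLib.Coprime.pPrimeCore_not_dvd (G := G) Nat.prime_two h.two_dvd
    haveI : (Cfsg.oddCore G).Normal := (inferInstance : (Cfsg.pPrimeCore 2 G).Normal)
    have hps : IsPSolvable p G := by
      refine isPSolvable_of_normal _ G rfl (Cfsg.oddCore G) (Cfsg.Agent.S0205.result hodd) ?_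
      refine Nat.Coprime.coprime_dvd_left ?_ (hp.out.coprime_iff_not_dvd.2 hMp).symm
      rw [← Subgroup.relIndex_top_right, ← hsup, sup_comm, Subgroup.relIndex_sup_right]
      exact Subgroup.relIndex_dvd_card _ _
    exact ((Strunkov.defect_zero_of_isPSolvable hp2 hpG h2G hNo hps).imp id fun h => ⟨hps, h⟩)

end CfsgLib.Char.PPowerDegree
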